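import Groth.Agent.H64.Invariants
import Mathlib.LinearAlgebra.TensorProduct.RightExactness
import Mathlib.RingTheory.Spectrum.Prime.Topology
import Mathlib.RingTheory.Flat.Basic
import Mathlib.RingTheory.Flat.Localization

set_option autoImplicit false
universe u v w
open HopfRep TensorProduct

namespace Groth.Agent.H64.CatQuot

section Inv

variable (k : Type u) [CommRing k] (A : Type v) [CommRing A] [HopfAlgebra k A]
    (B : Type w) [CommRing B] [Algebra k B] [HopfRep.Comod k A B] [GLin.IsCoactAlg k A B]
    (α : A →ₗ[k] B)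

omit [GLin.IsCoactAlg k A B] in
theorem rey_mem_of_coact_mem (J : Ideal B) (t : B)
    (ht : HopfRep.Comod.coact (k := k) (A := A) t ∈
      LinearMap.range (LinearMap.rTensor A (Submodule.subtype (J.restrictScalars k)))) :
    rey k A B α t ∈ J := by
  obtain ⟨w, hw⟩ := ht
  unfold rey TameAct.reynolds
  rw [LinearMap.comp_apply, ← hw]
  clear hw
  induction w using TensorProduct.induction_on with
  | zero => simp
  | tmul t' a =>
    simp only [LinearMap.rTensor_tmul, Submodule.subtype_apply, TensorProduct.lift.tmul,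
      LinearMap.flip_apply, LinearMap.comp_apply]
    exact J.mul_mem_left _ t'.2
  | add p q hp hq =>
    simp only [map_add]
    exact J.add_mem hp hq

/-- the largest "invariant" ideal inside `J`: the preimage under the coaction of `J ⊗ A` -/
noncomputable def invIdeal (J : Ideal B) : Ideal B :=
  (J.map (Algebra.TensorProduct.includeLeft : B →ₐ[k] B ⊗[k] A)).comap
    (GLin.coactAlgHom k A B).toRingHom

theorem rey_mem_of_mem_invIdeal (J : Ideal B) (t : B) (ht : t ∈ invIdeal k A B J) :
    rey k A B α t ∈ J := by
  apply rey_mem_of_coact_mem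
  have h1 : (GLin.coactAlgHom k A B) t ∈
      (J.map (Algebra.TensorProduct.includeLeft : B →ₐ[k] B ⊗[k] A)).restrictScalars k := ht
  rw [Ideal.map_includeLeft_eq] at h1
  exact h1

theorem zeroLocus_invIdeal_subset (J : Ideal B) (W : Set (PrimeSpectrum B))
    (hW : IsClosed W) (hJ : PrimeSpectrum.zeroLocus (J : Set B) ⊆ W)
    (hinv : ∀ Q : PrimeSpectrum (B ⊗[k] A),
      PrimeSpectrum.comap (Algebra.TensorProduct.includeLeftRingHom : B →+* B ⊗[k] A) Q ∈ W →
      PrimeSpectrum.comap (GLin.coactAlgHom k A B).toRingHom Q ∈ W) :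
    PrimeSpectrum.zeroLocus (invIdeal k A B J : Set B) ⊆ W := by
  unfold invIdeal
  rw [← PrimeSpectrum.closure_image_comap_zeroLocus]
  apply closure_minimal _ hW
  rintro _ ⟨Q, hQ, rfl⟩
  apply hinv
  apply hJ
  rw [PrimeSpectrum.mem_zeroLocus] at hQ ⊢
  intro x hx
  exact hQ (Ideal.mem_map_of_mem _ hx)

/-- the covering lemma: closed invariant subsets with empty intersection are separated by invariant
functions -/
theorem exists_invariant_notMem (hα : Hoch.IsComodHom A α) (hα1 : α 1 = 1)
    {ι : Type*} (W : ι → Set (PrimeSpectrum B)) (hWc : ∀ i, IsClosed (W i))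
    (hinv : ∀ i (Q : PrimeSpectrum (B ⊗[k] A)),
      PrimeSpectrum.comap (Algebra.TensorProduct.includeLeftRingHom : B →+* B ⊗[k] A) Q ∈ W i →
      PrimeSpectrum.comap (GLin.coactAlgHom k A B).toRingHom Q ∈ W i)
    (hW : ∀ x, ∃ i, x ∉ W i)
    (y : PrimeSpectrum (GLin.invariants k A B)) :
    ∃ i, ∃ c : GLin.invariants k A B, c ∉ y.asIdeal ∧ ∀ x ∈ W i, (c : B) ∈ x.asIdeal := by
  set J : ι → Ideal B := fun i => PrimeSpectrum.vanishingIdeal (W i) with hJ
  have hz : ∀ i, PrimeSpectrum.zeroLocus (J i : Set B) ⊆ W i := by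
    intro i
    rw [PrimeSpectrum.zeroLocus_vanishingIdeal_eq_closure, (hWc i).closure_eq]
  set I : ι → Ideal B := fun i => invIdeal k A B (J i) with hI
  have hItop : ⨆ i, I i = ⊤ := by
    by_contra h
    obtain ⟨M, hM, hle⟩ := Ideal.exists_le_maximal _ h
    obtain ⟨i, hi⟩ := hW ⟨M, hM.isPrime⟩
    apply hi
    apply zeroLocus_invIdeal_subset k A B (J i) (W i) (hWc i) (hz i) (hinv i)
    rw [PrimeSpectrum.mem_zeroLocus]
    exact (le_iSup I i).trans hle
  let K : Ideal (GLin.invariants k A B) := Ideal.span {c | ∃ i, (c : B) ∈ J i}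
  have hK : ∀ b ∈ ⨆ i, I i,
      (⟨rey k A B α b, rey_mem k A B α hα b⟩ : GLin.invariants k A B) ∈ K := by
    intro b hb
    refine Submodule.iSup_induction I
      (motive := fun b => (⟨rey k A B α b, rey_mem k A B α hα b⟩ : GLin.invariants k A B) ∈ K)
      hb ?_ ?_ ?_
    · intro i x hx
      exact Ideal.subset_span ⟨i, rey_mem_of_mem_invIdeal k A B α (J i) x hx⟩
    · have : (⟨rey k A B α 0, rey_mem k A B α hα 0⟩ : GLin.invariants k A B) = 0 :=
        Subtype.ext (map_zero _)
      rw [this]
      exact K.zero_mem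
    · intro x x' hx hx'
      have : (⟨rey k A B α (x + x'), rey_mem k A B α hα (x + x')⟩ : GLin.invariants k A B) =
          ⟨rey k A B α x, rey_mem k A B α hα x⟩ + ⟨rey k A B α x', rey_mem k A B α hα x'⟩ :=
        Subtype.ext (map_add _ _ _)
      rw [this]
      exact K.add_mem hx hx'
  have h1 : (1 : GLin.invariants k A B) ∈ K := by
    have h := hK 1 (hItop ▸ Submodule.mem_top)
    have e : (⟨rey k A B α 1, rey_mem k A B α hα 1⟩ : GLin.invariants k A B) = 1 :=
      Subtype.ext (rey_of_mem k A B α hα1 1 (GLin.invariants k A B).one_mem)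
    rwa [e] at h
  by_contra hcon
  push Not at hcon
  have hKy : K ≤ y.asIdeal := by
    apply Ideal.span_le.2
    rintro c ⟨i, hci⟩
    by_contra hc
    obtain ⟨x, hx, hcx⟩ := hcon i c hc
    exact hcx ((PrimeSpectrum.mem_vanishingIdeal _ _).1 hci x hx)
  exact (Ideal.ne_top_iff_one _).1 y.2.ne_top (hKy h1)

/-- the Reynolds operator as a map of modules over the invariants -/
noncomputable def reyC (hα : Hoch.IsComodHom A α) :
    B →ₗ[GLin.invariants k A B] GLin.invariants k A B where
  toFun b := ⟨rey k A B α b, rey_mem k A B α hα b⟩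
  map_add' x y := Subtype.ext (map_add _ _ _)
  map_smul' c b := Subtype.ext (by
    show rey k A B α (c • b) = (c : B) * rey k A B α b
    rw [Algebra.smul_def]
    exact rey_mul k A B α _ _ c.2)

theorem reyC_one (hα : Hoch.IsComodHom A α) (hα1 : α 1 = 1) : reyC k A B α hα 1 = 1 :=
  Subtype.ext (rey_of_mem k A B α hα1 1 (GLin.invariants k A B).one_mem)

theorem comap_surjective_invariants (hα : Hoch.IsComodHom A α) (hα1 : α 1 = 1) :
    Function.Surjective (PrimeSpectrum.comap (algebraMap (GLin.invariants k A B) B)) := by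
  intro p
  obtain ⟨q, hq, hqp⟩ := (Ideal.comap_map_eq_self_iff_of_isPrime p.asIdeal).1
    (comap_map_invariants k A B α hα hα1 p.asIdeal)
  exact ⟨⟨q, hq⟩, PrimeSpectrum.ext hqp⟩

/-- the coaction as an algebra map over the invariants -/
noncomputable def coactC : B →ₐ[GLin.invariants k A B] B ⊗[k] A where
  toRingHom := (GLin.coactAlgHom k A B).toRingHom
  commutes' c := by
    show HopfRep.Comod.coact (k := k) (A := A) (c : B) = _
    rw [c.2]
    rfl

theorem coactC_apply (b : B) : coactC k A B b = HopfRep.Comod.coact (k := k) (A := A) b := rfl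

/-- `b ↦ b ⊗ 1` as an algebra map over the invariants -/
noncomputable def inclC : B →ₐ[GLin.invariants k A B] B ⊗[k] A where
  toRingHom := (Algebra.TensorProduct.includeLeftRingHom : B →+* B ⊗[k] A)
  commutes' _ := rfl

theorem inclC_apply (b : B) : inclC k A B b = b ⊗ₜ[k] (1 : A) := rfl

/-- Flat base change of the invariants: over a flat algebra `R'` over the invariants `C`, the
elements of `B ⊗[C] R'` equalised by the two coactions come from `R'`. -/
theorem exists_eq_one_tmul_of_coact_eq (R' : Type*) [CommRing R']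
    [Algebra (GLin.invariants k A B) R'] [Module.Flat (GLin.invariants k A B) R']
    (y : B ⊗[GLin.invariants k A B] R')
    (hy : Algebra.TensorProduct.map (coactC k A B) (AlgHom.id (GLin.invariants k A B) R') y =
      Algebra.TensorProduct.map (inclC k A B) (AlgHom.id (GLin.invariants k A B) R') y) :
    ∃ r : R', y = (1 : B) ⊗ₜ[GLin.invariants k A B] r := by
  let f : GLin.invariants k A B →ₗ[GLin.invariants k A B] B :=
    Algebra.linearMap (GLin.invariants k A B) B
  let d : B →ₗ[GLin.invariants k A B] B ⊗[k] A :=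
    (coactC k A B).toLinearMap - (inclC k A B).toLinearMap
  have hex : Function.Exact f d := by
    intro b
    constructor
    · intro hb
      have hb' : HopfRep.Comod.coact (k := k) (A := A) b = b ⊗ₜ[k] (1 : A) := by
        have : coactC k A B b - inclC k A B b = 0 := hb
        rw [sub_eq_zero] at this
        exact this
      exact ⟨⟨b, hb'⟩, rfl⟩
    · rintro ⟨c, rfl⟩
      show coactC k A B (c : B) - inclC k A B (c : B) = 0
      rw [sub_eq_zero]
      exact c.2
  have hex' := Module.Flat.rTensor_exact R' hex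
  have hd : d.rTensor R' y = 0 := by
    have h1 : ∀ z : B ⊗[GLin.invariants k A B] R', (coactC k A B).toLinearMap.rTensor R' z =
        Algebra.TensorProduct.map (coactC k A B) (AlgHom.id (GLin.invariants k A B) R') z := by
      intro z
      induction z using TensorProduct.induction_on with
      | zero => simp
      | tmul b r => simp
      | add p q hp hq => simp only [map_add, hp, hq]
    have h2 : ∀ z : B ⊗[GLin.invariants k A B] R', (inclC k A B).toLinearMap.rTensor R' z =
        Algebra.TensorProduct.map (inclC k A B) (AlgHom.id (GLin.invariants k A B) R') z := by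
      intro z
      induction z using TensorProduct.induction_on with
      | zero => simp
      | tmul b r => simp
      | add p q hp hq => simp only [map_add, hp, hq]
    rw [LinearMap.rTensor_sub, LinearMap.sub_apply, h1, h2, hy, sub_self]
  obtain ⟨z, hz⟩ := (hex' y).1 hd
  refine ⟨TensorProduct.lid (GLin.invariants k A B) R' z, ?_⟩
  rw [← hz]
  clear hz
  induction z using TensorProduct.induction_on with
  | zero => simp
  | tmul c r =>
    simp only [LinearMap.rTensor_tmul, TensorProduct.lid_tmul]
    show (c : B) ⊗ₜ[GLin.invariants k A B] r = (1 : B) ⊗ₜ[GLin.invariants k A B] (c • r)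
    rw [TensorProduct.tmul_smul, TensorProduct.smul_tmul']
    congr 1
    rw [Algebra.smul_def, mul_one]
    rfl
  | add p q hp hq => simp only [map_add, hp, hq, TensorProduct.tmul_add]

end Inv

end Groth.Agent.H64.CatQuot
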