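import Mathlib.AlgebraicGeometry.Morphisms.SchemeTheoreticallyDominant
import Mathlib.AlgebraicGeometry.PullbackCarrier
import Mathlib.AlgebraicGeometry.Pullbacks

set_option autoImplicit false
universe u
open CategoryTheory AlgebraicGeometry CategoryTheory.Limits TensorProduct

namespace Groth.Agent.H64.CatQuot

theorem appLE_congr_hom {X Z : Scheme.{u}} (g g' : X ⟶ Z) (h : g = g') (U : Z.Opens) (V : X.Opens)
    (e1 : V ≤ g ⁻¹ᵁ U) (e2 : V ≤ g' ⁻¹ᵁ U) : g.appLE U V e1 = g'.appLE U V e2 := by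
  subst h; rfl

/-- A morphism of schemes which is surjective on points and injective on sections over every open
is an epimorphism. -/
theorem epi_of_surjective_of_app_injective {X Y : Scheme.{u}} (f : X ⟶ Y)
    (hs : Function.Surjective f) (hi : ∀ U : Y.Opens, Function.Injective (f.app U)) : Epi f := by
  constructor
  intro Z a b e
  have hbase : a.base = b.base := by
    ext y
    obtain ⟨x, rfl⟩ := hs y
    have := congr(($e).base x)
    simpa using this
  refine Scheme.Hom.ext hbase fun U => ?_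
  have hmono : Mono (f.app (b ⁻¹ᵁ U)) := ConcreteCategory.mono_of_injective _ (hi _)
  have hUU : b ⁻¹ᵁ U = a ⁻¹ᵁ U := congr((TopologicalSpace.Opens.map $hbase.symm).obj U)
  have hle : b ⁻¹ᵁ U ≤ a ⁻¹ᵁ U := hUU.le
  have h2 : a.app U ≫ Y.presheaf.map
      (eqToHom congr((TopologicalSpace.Opens.map $hbase.symm).obj U)).op =
      a.appLE U (b ⁻¹ᵁ U) hle := by
    rw [a.app_eq_appLE, Scheme.Hom.appLE_map]
  rw [h2, ← cancel_mono (f.app (b ⁻¹ᵁ U))]
  have hle2 : f ⁻¹ᵁ b ⁻¹ᵁ U ≤ (f ≫ b) ⁻¹ᵁ U := le_of_eq rfl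
  calc a.appLE U (b ⁻¹ᵁ U) hle ≫ f.app (b ⁻¹ᵁ U)
      = a.appLE U (b ⁻¹ᵁ U) hle ≫ f.appLE (b ⁻¹ᵁ U) (f ⁻¹ᵁ b ⁻¹ᵁ U) le_rfl := by
        rw [← f.app_eq_appLE]
    _ = (f ≫ a).appLE U (f ⁻¹ᵁ b ⁻¹ᵁ U) _ := Scheme.Hom.appLE_comp_appLE ..
    _ = (f ≫ b).appLE U (f ⁻¹ᵁ b ⁻¹ᵁ U) hle2 := appLE_congr_hom _ _ e _ _ _ _
    _ = b.app U ≫ f.app (b ⁻¹ᵁ U) :=
        (Scheme.Hom.comp_appLE f b U _ hle2).trans
          (congrArg (fun t => b.app U ≫ t) f.app_eq_appLE.symm)

/-- `Spec` of an injective ring map is injective on sections over all opens. -/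
theorem Spec_map_app_injective {R S : CommRingCat.{u}} (φ : R ⟶ S)
    (h : Function.Injective φ.hom) (U : (Spec R).Opens) :
    Function.Injective ((Spec.map φ).app U) := by
  have : IsSchemeTheoreticallyDominant (Spec.map φ) := by
    rw [isSchemeTheoreticallyDominant_iff, Scheme.ker_of_isAffine]
    apply Scheme.IdealSheafData.ext_of_isAffine
    simp only [Scheme.IdealSheafData.ofIdealTop_ideal]
    have hinj : Function.Injective (Spec.map φ).appTop.hom := by
      have e1 : (Spec.map φ).appTop = (Scheme.ΓSpecIso R).hom ≫ φ ≫ (Scheme.ΓSpecIso S).inv := by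
        rw [Scheme.ΓSpecIso_inv_naturality, Iso.hom_inv_id_assoc]
      rw [e1]
      simp only [CommRingCat.hom_comp, RingHom.coe_comp]
      exact ((ConcreteCategory.bijective_of_isIso (Scheme.ΓSpecIso S).inv).1.comp h).comp
        (ConcreteCategory.bijective_of_isIso (Scheme.ΓSpecIso R).hom).1
    rw [(RingHom.injective_iff_ker_eq_bot _).1 hinj]
    simp
  exact Scheme.Hom.app_injective _ U

/-- the tensor square as a pullback square of spectra -/
theorem isPullback_Spec_tensor (R S T : Type u) [CommRing R] [CommRing S] [CommRing T]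
    [Algebra R S] [Algebra R T] :
    IsPullback
      (Spec.map (CommRingCat.ofHom
        (Algebra.TensorProduct.includeLeftRingHom : S →+* S ⊗[R] T)))
      (Spec.map (CommRingCat.ofHom
        ((Algebra.TensorProduct.includeRight : T →ₐ[R] S ⊗[R] T).toRingHom)))
      (Spec.map (CommRingCat.ofHom (algebraMap R S)))
      (Spec.map (CommRingCat.ofHom (algebraMap R T))) :=
  isPullback_SpecMap_of_isPushout _ _ _ _ (CommRingCat.isPushout_tensorProduct R S T)

/-- If `R → S` has an `R`-linear retraction and `Spec S → Spec R` is surjective, then every base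
change `Spec (S ⊗[R] T) → Spec T` is an epimorphism of schemes. -/
theorem epi_Spec_includeRight (R S T : Type u) [CommRing R] [CommRing S] [CommRing T]
    [Algebra R S] [Algebra R T] (E : S →ₗ[R] R) (hE : E 1 = 1)
    (hsurj : Function.Surjective (Spec.map (CommRingCat.ofHom (algebraMap R S)))) :
    Epi (Spec.map (CommRingCat.ofHom
      ((Algebra.TensorProduct.includeRight : T →ₐ[R] S ⊗[R] T).toRingHom))) := by
  apply epi_of_surjective_of_app_injective
  · have sq := isPullback_Spec_tensor R S T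
    have h1 : Surjective (Spec.map (CommRingCat.ofHom (algebraMap R S))) := ⟨hsurj⟩
    have h2 := MorphismProperty.of_isPullback (P := @Surjective) sq h1
    exact h2.surj
  · intro U
    apply Spec_map_app_injective
    have hl : Function.LeftInverse ((TensorProduct.lid R T).toLinearMap ∘ₗ E.rTensor T)
        (Algebra.TensorProduct.includeRight : T →ₐ[R] S ⊗[R] T) := by
      intro t
      simp [hE]
    exact hl.injective

/-- the same for the base change along any morphism from an affine scheme -/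
theorem epi_pullback_snd_of_retraction (R S : Type u) [CommRing R] [CommRing S]
    [Algebra R S] (E : S →ₗ[R] R) (hE : E 1 = 1)
    (hsurj : Function.Surjective (Spec.map (CommRingCat.ofHom (algebraMap R S))))
    (P : Scheme.{u}) [IsAffine P] (q : P ⟶ Spec (CommRingCat.of R)) :
    Epi (pullback.snd (Spec.map (CommRingCat.ofHom (algebraMap R S))) q) := by
  obtain ⟨γ, hγ⟩ := Spec.map_surjective (P.isoSpec.inv ≫ q)
  let _ : Algebra R Γ(P, ⊤) := γ.hom.toAlgebra
  have hγ' : Spec.map (CommRingCat.ofHom (algebraMap R Γ(P, ⊤))) = P.isoSpec.inv ≫ q := hγ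
  have sq := isPullback_Spec_tensor R S Γ(P, ⊤)
  have hepi := epi_Spec_includeRight R S Γ(P, ⊤) E hE hsurj
  constructor
  intro Z a b hab
  have hw : Spec.map (CommRingCat.ofHom
        (Algebra.TensorProduct.includeLeftRingHom : S →+* S ⊗[R] Γ(P, ⊤))) ≫
      Spec.map (CommRingCat.ofHom (algebraMap R S)) =
      (Spec.map (CommRingCat.ofHom
        ((Algebra.TensorProduct.includeRight : Γ(P, ⊤) →ₐ[R] S ⊗[R] Γ(P, ⊤)).toRingHom)) ≫
        P.isoSpec.inv) ≫ q := by
    rw [sq.w, hγ', Category.assoc]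
  have h1 : Spec.map (CommRingCat.ofHom
        ((Algebra.TensorProduct.includeRight : Γ(P, ⊤) →ₐ[R] S ⊗[R] Γ(P, ⊤)).toRingHom)) ≫
        (P.isoSpec.inv ≫ a) =
      Spec.map (CommRingCat.ofHom
        ((Algebra.TensorProduct.includeRight : Γ(P, ⊤) →ₐ[R] S ⊗[R] Γ(P, ⊤)).toRingHom)) ≫
        (P.isoSpec.inv ≫ b) := by
    have ha : pullback.lift _ _ hw ≫ pullback.snd _ _ ≫ a =
        pullback.lift _ _ hw ≫ pullback.snd _ _ ≫ b := by rw [hab]
    rw [pullback.lift_snd_assoc, pullback.lift_snd_assoc, Category.assoc, Category.assoc] at ha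
    exact ha
  have h2 := (cancel_epi _).1 h1
  exact (cancel_epi _).1 h2

end Groth.Agent.H64.CatQuot
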