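import Groth.Agent.H64.CatQuot.Epi
import Groth.Agent.H64.CatQuot.Alg
import Mathlib.AlgebraicGeometry.Cover.Open
import Mathlib.AlgebraicGeometry.AffineScheme

set_option autoImplicit false
universe u
open CategoryTheory AlgebraicGeometry CategoryTheory.Limits TensorProduct HopfRep

namespace Groth.Agent.H64.CatQuot

section Main

variable (k : Type u) [CommRing k] (A : Type u) [CommRing A] [HopfAlgebra k A]
    (B : Type u) [CommRing B] [Algebra k B] [HopfRep.Comod k A B] [GLin.IsCoactAlg k A B]

/-- local descent: over a flat algebra `R'` over the invariants such that `Spec (B ⊗ R')` is mapped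
into an affine open of `Z`, the invariant morphism descends to `Spec R'`. -/
theorem exists_local_desc (Z : Scheme.{u}) (ψ : Spec (CommRingCat.of B) ⟶ Z)
    (hψ : Spec.map (CommRingCat.ofHom (GLin.coactAlgHom k A B).toRingHom) ≫ ψ =
      Spec.map (CommRingCat.ofHom
        (Algebra.TensorProduct.includeLeftRingHom : B →+* TensorProduct k B A)) ≫ ψ)
    (R' : Type u) [CommRing R'] [Algebra (GLin.invariants k A B) R']
    [Module.Flat (GLin.invariants k A B) R'] (V : Z.Opens) (hV : IsAffineOpen V)
    (hrange : ∀ x : Spec (CommRingCat.of (B ⊗[GLin.invariants k A B] R')),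
      ψ (Spec.map (CommRingCat.ofHom (Algebra.TensorProduct.includeLeftRingHom :
        B →+* B ⊗[GLin.invariants k A B] R')) x) ∈ V) :
    ∃ χ' : Spec (CommRingCat.of R') ⟶ Z,
      Spec.map (CommRingCat.ofHom ((Algebra.TensorProduct.includeRight :
        R' →ₐ[GLin.invariants k A B] B ⊗[GLin.invariants k A B] R').toRingHom)) ≫ χ' =
      Spec.map (CommRingCat.ofHom (Algebra.TensorProduct.includeLeftRingHom :
        B →+* B ⊗[GLin.invariants k A B] R')) ≫ ψ := by
  set fst' := Spec.map (CommRingCat.ofHom (Algebra.TensorProduct.includeLeftRingHom :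
        B →+* B ⊗[GLin.invariants k A B] R')) with hfst'
  have hsub : Set.range (fst' ≫ ψ) ⊆ Set.range hV.fromSpec := by
    rw [hV.range_fromSpec]
    rintro _ ⟨x, rfl⟩
    exact hrange x
  let t := IsOpenImmersion.lift hV.fromSpec (fst' ≫ ψ) hsub
  have ht : t ≫ hV.fromSpec = fst' ≫ ψ := IsOpenImmersion.lift_fac _ _ _
  obtain ⟨r, hr⟩ := Spec.map_surjective t
  let ρ' := Algebra.TensorProduct.map (coactC k A B) (AlgHom.id (GLin.invariants k A B) R')
  let pr'' := Algebra.TensorProduct.map (inclC k A B) (AlgHom.id (GLin.invariants k A B) R')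
  let iL : B ⊗[k] A →+* (B ⊗[k] A) ⊗[GLin.invariants k A B] R' :=
    Algebra.TensorProduct.includeLeftRingHom
  have e1 : (CommRingCat.ofHom (Algebra.TensorProduct.includeLeftRingHom :
        B →+* B ⊗[GLin.invariants k A B] R')) ≫ CommRingCat.ofHom ρ'.toRingHom =
      CommRingCat.ofHom (GLin.coactAlgHom k A B).toRingHom ≫ CommRingCat.ofHom iL := by
    ext b
    show ρ' (b ⊗ₜ 1) = (GLin.coactAlgHom k A B b) ⊗ₜ 1
    simp [ρ', coactC_apply]
  have e2 : (CommRingCat.ofHom (Algebra.TensorProduct.includeLeftRingHom :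
        B →+* B ⊗[GLin.invariants k A B] R')) ≫ CommRingCat.ofHom pr''.toRingHom =
      CommRingCat.ofHom (Algebra.TensorProduct.includeLeftRingHom : B →+* B ⊗[k] A) ≫
        CommRingCat.ofHom iL := by
    ext b
    show pr'' (b ⊗ₜ 1) = (b ⊗ₜ[k] (1 : A)) ⊗ₜ 1
    simp [pr'', inclC_apply]
  have hreq : Spec.map (CommRingCat.ofHom ρ'.toRingHom) ≫ t =
      Spec.map (CommRingCat.ofHom pr''.toRingHom) ≫ t := by
    rw [← cancel_mono hV.fromSpec, Category.assoc, Category.assoc, ht, hfst',
      ← Spec.map_comp_assoc, ← Spec.map_comp_assoc, e1, e2, Spec.map_comp_assoc,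
      Spec.map_comp_assoc, hψ]
  have hreq' : r ≫ CommRingCat.ofHom ρ'.toRingHom = r ≫ CommRingCat.ofHom pr''.toRingHom := by
    apply Spec.map_injective
    rw [Spec.map_comp, Spec.map_comp, hr]
    exact hreq
  have hmem : ∀ g, ∃ r' : R', r.hom g = (1 : B) ⊗ₜ[GLin.invariants k A B] r' := fun g =>
    exists_eq_one_tmul_of_coact_eq k A B R' (r.hom g) (congr(($hreq').hom g))
  have hinj : Function.Injective
      (Algebra.TensorProduct.includeRight :
        R' →ₐ[GLin.invariants k A B] B ⊗[GLin.invariants k A B] R') :=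
    Algebra.TensorProduct.includeRight_injective (fun x y h => Subtype.ext h)
  let iR : R' →+* B ⊗[GLin.invariants k A B] R' :=
    (Algebra.TensorProduct.includeRight :
        R' →ₐ[GLin.invariants k A B] B ⊗[GLin.invariants k A B] R').toRingHom
  have hmem' : ∀ g, r.hom g ∈ iR.range := fun g => by
    obtain ⟨r', h⟩ := hmem g
    exact ⟨r', h.symm⟩
  let eqv : R' ≃+* iR.range := RingEquiv.ofLeftInverse (Function.leftInverse_invFun hinj)
  let r' : Γ(Z, V) →+* R' := eqv.symm.toRingHom.comp (r.hom.codRestrict iR.range hmem')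
  have hr' : CommRingCat.ofHom r' ≫ CommRingCat.ofHom iR = r := by
    ext g
    show iR (eqv.symm ⟨r.hom g, hmem' g⟩) = r.hom g
    have := eqv.apply_symm_apply ⟨r.hom g, hmem' g⟩
    exact congrArg Subtype.val this
  refine ⟨Spec.map (CommRingCat.ofHom r') ≫ hV.fromSpec, ?_⟩
  rw [← Spec.map_comp_assoc, hr', hr, ht]

theorem surjective_Spec_invariants (α : A →ₗ[k] B) (hα : Hoch.IsComodHom A α) (hα1 : α 1 = 1) :
    Function.Surjective
      (Spec.map (CommRingCat.ofHom (algebraMap (GLin.invariants k A B) B))) :=
  comap_surjective_invariants k A B α hα hα1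

theorem epi_Spec_invariants (α : A →ₗ[k] B) (hα : Hoch.IsComodHom A α) (hα1 : α 1 = 1) :
    Epi (Spec.map (CommRingCat.ofHom (algebraMap (GLin.invariants k A B) B))) := by
  apply epi_of_surjective_of_app_injective
  · exact surjective_Spec_invariants k A B α hα hα1
  · intro U
    apply Spec_map_app_injective
    exact fun x y h => Subtype.ext h

/-- `Spec B → Spec B^A` is a categorical quotient in schemes (for a coaction with a total integral). -/
theorem existsUnique_desc (htame : ∃ α : A →ₗ[k] B, Hoch.IsComodHom A α ∧ α 1 = 1)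
    (Z : Scheme.{u}) (ψ : Spec (CommRingCat.of B) ⟶ Z)
    (hψ : Spec.map (CommRingCat.ofHom (GLin.coactAlgHom k A B).toRingHom) ≫ ψ =
      Spec.map (CommRingCat.ofHom
        (Algebra.TensorProduct.includeLeftRingHom : B →+* TensorProduct k B A)) ≫ ψ) :
    ∃! χ : Spec (CommRingCat.of (GLin.invariants k A B)) ⟶ Z,
      Spec.map (CommRingCat.ofHom (algebraMap (GLin.invariants k A B) B)) ≫ χ = ψ := by
  obtain ⟨α, hα, hα1⟩ := htame
  have hepi := epi_Spec_invariants k A B α hα hα1
  have hsurj := surjective_Spec_invariants k A B α hα hα1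
  suffices hex : ∃ χ : Spec (CommRingCat.of (GLin.invariants k A B)) ⟶ Z,
      Spec.map (CommRingCat.ofHom (algebraMap (GLin.invariants k A B) B)) ≫ χ = ψ by
    obtain ⟨χ, hχ⟩ := hex
    exact ⟨χ, hχ, fun χ' hχ' => (cancel_epi _).1 (hχ'.trans hχ.symm)⟩
  -- the index set of the cover
  let I := {c : GLin.invariants k A B // ∃ V : Z.affineOpens,
    ∀ x : Spec (CommRingCat.of B), (c : B) ∉ x.asIdeal → ψ x ∈ V.1}
  have hcov : ∀ y : PrimeSpectrum (GLin.invariants k A B), ∃ i : I, i.1 ∉ y.asIdeal := by
    intro y
    let W : Z.affineOpens → Set (PrimeSpectrum B) := fun V =>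
      ((ψ ⁻¹ᵁ V.1 : (Spec (CommRingCat.of B)).Opens) : Set (Spec (CommRingCat.of B)))ᶜ
    have hWc : ∀ V, IsClosed (W V) := fun V => (ψ ⁻¹ᵁ V.1).isOpen.isClosed_compl
    have hinv : ∀ V (Q : PrimeSpectrum (B ⊗[k] A)),
        PrimeSpectrum.comap (Algebra.TensorProduct.includeLeftRingHom : B →+* B ⊗[k] A) Q ∈ W V →
        PrimeSpectrum.comap (GLin.coactAlgHom k A B).toRingHom Q ∈ W V := by
      intro V Q hQ
      have h1 := congr(($hψ).base Q)
      have h2 : ψ (show Spec (CommRingCat.of B) from
            PrimeSpectrum.comap (GLin.coactAlgHom k A B).toRingHom Q) =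
          ψ (show Spec (CommRingCat.of B) from PrimeSpectrum.comap
            (Algebra.TensorProduct.includeLeftRingHom : B →+* B ⊗[k] A) Q) := h1
      intro hmem
      apply hQ
      show ψ (show Spec (CommRingCat.of B) from PrimeSpectrum.comap
            (Algebra.TensorProduct.includeLeftRingHom : B →+* B ⊗[k] A) Q) ∈ V.1
      rw [← h2]
      exact hmem
    have hW : ∀ x, ∃ V, x ∉ W V := by
      intro x
      obtain ⟨_, ⟨V, hV, rfl⟩, hxV, -⟩ :=
        Z.isBasis_affineOpens.exists_subset_of_mem_open (Set.mem_univ (ψ x)) isOpen_univ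
      exact ⟨⟨V, hV⟩, fun h => h hxV⟩
    obtain ⟨V, c, hcy, hc⟩ := exists_invariant_notMem k A B α hα hα1 W hWc hinv hW y
    exact ⟨⟨c, V, fun x hx => by_contra (fun h => hx (hc x h))⟩, hcy⟩
  have hspan : Ideal.span (Set.range (fun i : I => (i.1 : GLin.invariants k A B))) = ⊤ := by
    by_contra h
    obtain ⟨M, hM, hle⟩ := Ideal.exists_le_maximal _ h
    obtain ⟨i, hi⟩ := hcov ⟨M, hM.isPrime⟩
    exact hi (hle (Ideal.subset_span ⟨i, rfl⟩))
  let 𝒰 : (Spec (CommRingCat.of (GLin.invariants k A B))).OpenCover :=
    (Scheme.affineOpenCoverOfSpanRangeEqTop (R := CommRingCat.of (GLin.invariants k A B))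
      (fun i : I => (i.1 : GLin.invariants k A B)) hspan).openCover
  -- local descents
  have hloc : ∀ i : I, ∃ χ' : Spec (CommRingCat.of
        (Localization.Away (i.1 : GLin.invariants k A B))) ⟶ Z,
      Spec.map (CommRingCat.ofHom ((Algebra.TensorProduct.includeRight :
        Localization.Away (i.1 : GLin.invariants k A B) →ₐ[GLin.invariants k A B]
          B ⊗[GLin.invariants k A B] Localization.Away (i.1 : GLin.invariants k A B)).toRingHom)) ≫
        χ' =
      Spec.map (CommRingCat.ofHom (Algebra.TensorProduct.includeLeftRingHom :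
        B →+* B ⊗[GLin.invariants k A B] Localization.Away (i.1 : GLin.invariants k A B))) ≫
        ψ := by
    rintro ⟨c, V, hV⟩
    apply exists_local_desc k A B Z ψ hψ (Localization.Away c) V.1 V.2
    intro x
    apply hV
    intro hcx
    have hcx' : (c : B) ⊗ₜ[GLin.invariants k A B] (1 : Localization.Away c) ∈ x.asIdeal := hcx
    have hu : IsUnit ((c : B) ⊗ₜ[GLin.invariants k A B] (1 : Localization.Away c)) := by
      have e : (c : B) ⊗ₜ[GLin.invariants k A B] (1 : Localization.Away c) =
          (Algebra.TensorProduct.includeRight : Localization.Away c →ₐ[GLin.invariants k A B]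
            B ⊗[GLin.invariants k A B] Localization.Away c)
            (algebraMap (GLin.invariants k A B) (Localization.Away c) c) := by
        show _ = (1 : B) ⊗ₜ[GLin.invariants k A B]
          (algebraMap (GLin.invariants k A B) (Localization.Away c) c)
        rw [Algebra.algebraMap_eq_smul_one, TensorProduct.tmul_smul, TensorProduct.smul_tmul']
        congr 1
        rw [Algebra.smul_def, mul_one]
        rfl
      rw [e]
      exact (IsLocalization.Away.algebraMap_isUnit c).map _
    exact x.2.ne_top (Ideal.eq_top_of_isUnit_mem _ hcx' hu)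
  choose χ_ hχ using hloc
  -- the defining property of the local descents, for arbitrary test objects
  have H : ∀ (i : I) (T : Scheme.{u}) (a : T ⟶ Spec (CommRingCat.of B))
      (b : T ⟶ Spec (CommRingCat.of (Localization.Away (i.1 : GLin.invariants k A B))))
      (hab : a ≫ Spec.map (CommRingCat.ofHom (algebraMap (GLin.invariants k A B) B)) =
        b ≫ Spec.map (CommRingCat.ofHom (algebraMap (GLin.invariants k A B)
          (Localization.Away (i.1 : GLin.invariants k A B))))),
      b ≫ χ_ i = a ≫ ψ := by
    intro i T a b hab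
    have sq := isPullback_Spec_tensor (GLin.invariants k A B) B
      (Localization.Away (i.1 : GLin.invariants k A B))
    rw [← sq.lift_snd a b hab, Category.assoc, hχ i, ← Category.assoc, sq.lift_fst]
  have compat : ∀ i j : I,
      pullback.fst
        (Spec.map (CommRingCat.ofHom (algebraMap (GLin.invariants k A B)
          (Localization.Away (i.1 : GLin.invariants k A B)))))
        (Spec.map (CommRingCat.ofHom (algebraMap (GLin.invariants k A B)
          (Localization.Away (j.1 : GLin.invariants k A B))))) ≫ χ_ i =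
      pullback.snd
        (Spec.map (CommRingCat.ofHom (algebraMap (GLin.invariants k A B)
          (Localization.Away (i.1 : GLin.invariants k A B)))))
        (Spec.map (CommRingCat.ofHom (algebraMap (GLin.invariants k A B)
          (Localization.Away (j.1 : GLin.invariants k A B))))) ≫ χ_ j := by
    intro i j
    set ji := Spec.map (CommRingCat.ofHom (algebraMap (GLin.invariants k A B)
          (Localization.Away (i.1 : GLin.invariants k A B)))) with hji
    set jj := Spec.map (CommRingCat.ofHom (algebraMap (GLin.invariants k A B)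
          (Localization.Away (j.1 : GLin.invariants k A B)))) with hjj
    set πC := Spec.map (CommRingCat.ofHom (algebraMap (GLin.invariants k A B) B)) with hπC
    set q := pullback.fst ji jj ≫ ji with hq
    have hep : Epi (pullback.snd πC q) :=
      epi_pullback_snd_of_retraction (GLin.invariants k A B) B (reyC k A B α hα)
        (reyC_one k A B α hα hα1) hsurj (pullback ji jj) q
    have h1 := H i _ (pullback.fst πC q) (pullback.snd πC q ≫ pullback.fst ji jj)
      (by rw [pullback.condition, Category.assoc])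
    have h2 := H j _ (pullback.fst πC q) (pullback.snd πC q ≫ pullback.snd ji jj)
      (by rw [pullback.condition, Category.assoc, hq, pullback.condition])
    rw [← cancel_epi (pullback.snd πC q), ← Category.assoc, ← Category.assoc, h1, h2]
  refine ⟨𝒰.glueMorphisms χ_ compat, ?_⟩
  refine Scheme.Cover.hom_ext (𝒰.pullback₁ (Spec.map (CommRingCat.ofHom
      (algebraMap (GLin.invariants k A B) B)))) _ _ fun i => ?_
  let i' : I := i
  have e1 : 𝒰.f i' ≫ 𝒰.glueMorphisms χ_ compat = χ_ i' := 𝒰.ι_glueMorphisms χ_ compat i'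
  calc pullback.fst (Spec.map (CommRingCat.ofHom
          (algebraMap (GLin.invariants k A B) B))) (𝒰.f i') ≫
        Spec.map (CommRingCat.ofHom (algebraMap (GLin.invariants k A B) B)) ≫
          𝒰.glueMorphisms χ_ compat
      = pullback.snd (Spec.map (CommRingCat.ofHom
          (algebraMap (GLin.invariants k A B) B))) (𝒰.f i') ≫ 𝒰.f i' ≫
          𝒰.glueMorphisms χ_ compat := pullback.condition_assoc _
    _ = pullback.snd (Spec.map (CommRingCat.ofHom
          (algebraMap (GLin.invariants k A B) B))) (𝒰.f i') ≫ χ_ i' := by rw [e1]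
    _ = pullback.fst (Spec.map (CommRingCat.ofHom
          (algebraMap (GLin.invariants k A B) B))) (𝒰.f i') ≫ ψ :=
        H i' _ (pullback.fst _ _) (pullback.snd _ _) pullback.condition

end Main

end Groth.Agent.H64.CatQuot
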